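import Groth.Agent.Fano.K723.LinDef
import Groth.Agent.Dix.IdealModCartier
import Groth.Agent.Variety.K430.DivHom
import Groth.Agent.Divis.CartierBasic
import Groth.Agent.Divis.IdealComap
import Groth.Agent.Fdesc.LocGenGlue

/-!
# The pair `(O(D), 1)` of an effective Cartier ideal (S16940, nodes O1-O4)

* `exists_isO`: existence;
* `exists_iso`: uniqueness;
* `isO_pullback`: pullback;
* `mem_genLocus_iff`: the section `1` generates off the support.
-/

set_option autoImplicit false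

universe u

open CategoryTheory CategoryTheory.Limits AlgebraicGeometry TopologicalSpace Opposite

namespace K616.KonO

open K390.PnSec Groth.Agent.Fdesc.LocGen K188.LineDef K745.ConDef K505.KonDef K723.LinDef W4swstmapratcurves
open Groth.Agent.Dix.IdealModCartier

variable {C C' T T' : Scheme.{u}} {D : C.IdealSheafData} {L L' : C.Modules} {s : Γ(L, ⊤)} {s' : Γ(L', ⊤)}

/-- An ideal which is locally generated by `b` is generated by `b`. -/
theorem ideal_eq_span_of_local (D : C.IdealSheafData) (V : C.affineOpens) (b : Γ(C, V.1))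
    (h : ∀ x ∈ V.1, ∃ (W : C.affineOpens) (hW : W.1 ≤ V.1), x ∈ W.1 ∧ D.ideal W = Ideal.span {ores hW b}) :
    D.ideal V = Ideal.span {b} := by
  rw [V.2.ideal_ext_iff]
  intro x hx
  obtain ⟨W, hW, hxW, hD⟩ := h x hx
  rw [Groth.Agent.Divis.CartierBasic.map_germ_eq_of_le D (U := W) (V := V) hW hxW, hD, Ideal.map_span, Ideal.map_span,
    Set.image_singleton, Set.image_singleton]
  congr 2
  exact TopCat.Presheaf.germ_res_apply C.presheaf (homOfLE hW) x hxW b

/-- Generators of two modules on a small affine neighbourhood. -/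
theorem exists_gens (hL : PicF.IsInvertible L) (x : C) {U : C.Opens} (hx : x ∈ U) :
    ∃ (W : C.affineOpens) (_ : W.1 ≤ U) (_ : x ∈ W.1) (e : Γ(L, W.1)), IsGen e := by
  obtain ⟨W, h1, h2, e, -, -, he, -, -⟩ := K430.DivHom.exists_gens hL hL hL x hx
  exact ⟨W, h1, h2, e, he⟩

/-- Changing the generator. -/
theorem isO_of_local (hL : PicF.IsInvertible L)
    (h : ∀ x : C, ∀ U : C.Opens, x ∈ U → ∃ (W : C.affineOpens) (_ : W.1 ≤ U) (e : Γ(L, W.1)) (b : Γ(C, W.1)), x ∈ W.1 ∧
      IsGen e ∧ res L le_top s = b • e ∧ D.ideal W = Ideal.span {b}) : IsO D L s := by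
  refine ⟨hL, fun V e b he hb => ideal_eq_span_of_local D V b fun x hx => ?_⟩
  obtain ⟨W, hW, e', b', hxW, he', hb', hD⟩ := h x V.1 hx
  refine ⟨W, hW, hxW, ?_⟩
  obtain ⟨a, ha, hae⟩ := he'.exists_unit (he.res hW)
  have h1 := congrArg (res L hW) hb
  rw [res_res, res_smul, hb', hae, smul_smul] at h1
  have h2 := he'.ext h1
  rw [hD, h2]
  exact Ideal.span_singleton_mul_right_unit ha _

/-- Node O1 (dual of `ClSub.idealMod D`). -/
theorem exists_isO (hD : BlowUp.IsEffCartierIdeal D) : ∃ (L : C.Modules) (s : Γ(L, ⊤)), IsO D L s := by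
  have hI := isInvertible_idealMod hD
  obtain ⟨P, hP, ⟨θ⟩⟩ := Groth.Agent.Grpsch.PicGrp.exists_inverse hI
  have hO : PicF.IsInvertible (Coh.structureModule C) := isInvertible_structureModule
  refine ⟨CohB1.tensorMod (Coh.structureModule C) P, K430.DivHom.secOf (ClSub.idealModι D) θ,
    isO_of_local (isInvertible_tensorMod hO hP) fun x U hx => ?_⟩
  obtain ⟨W, hWU, hxW, g, -, p, hg, -, hp⟩ := K430.DivHom.exists_gens hI hO hP x hx
  have h1 : (ClSub.idealModι D).app W.1 g = val D g • one W.1 := (mul_one (val D g)).symm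
  obtain ⟨c, hc, hcs⟩ := K430.DivHom.secOf_local (ClSub.idealModι D) θ hg hp h1
  refine ⟨W, hWU, _, c * val D g, hxW, Groth.Agent.Ega3B.PullTensor.isGen_tmul (isGen_one W.1) hp, hcs, ?_⟩
  have h2 := (genOn_of_isGen hg W le_rfl).2
  rw [ores_refl] at h2
  rw [h2]
  exact (Ideal.span_singleton_mul_left_unit hc _).symm

/-- The local equation of an effective Cartier ideal. -/
theorem genOn_of_span (hD : BlowUp.IsEffCartierIdeal D) {V : C.Opens} {b : Γ(C, V)}
    (hb : ∀ (W : C.affineOpens) (h : W.1 ≤ V), D.ideal W = Ideal.span {ores h b}) : GenOn D b := by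
  intro W hW
  refine ⟨?_, hb W hW⟩
  rw [mem_nonZeroDivisors_iff_right]
  intro a ha
  choose W' hxW' hW' f hf hfD using fun x : W.1 => Groth.Agent.Divis.EffCartier.exists_princAt hD x.1 W.1 x.2
  refine ores_ext (fun x => (W' x).1) hW' (fun x hx => Opens.mem_iSup.2 ⟨⟨x, hx⟩, hxW' ⟨x, hx⟩⟩) fun x => ?_
  rw [map_zero]
  have h1 := congrArg (ores (hW' x)) ha
  rw [map_mul, map_zero, ores_ores] at h1
  have h2 := hb (W' x) ((hW' x).trans hW)
  have h3 : f x ∈ D.ideal (W' x) := hfD x ▸ Ideal.mem_span_singleton_self _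
  rw [h2, Ideal.mem_span_singleton] at h3
  obtain ⟨c, hc⟩ := h3
  refine (mem_nonZeroDivisors_iff_right.1 (hf x)) _ ?_
  rw [hc, ← mul_assoc, h1, zero_mul]

theorem genOn_of_isO (hD : BlowUp.IsEffCartierIdeal D) (h : IsO D L s) {V : C.Opens} {e : Γ(L, V)} {b : Γ(C, V)}
    (he : IsGen e) (hb : res L le_top s = b • e) : GenOn D b := by
  refine genOn_of_span hD fun W hW => h.ideal W (res L hW e) _ (he.res hW) ?_
  rw [← res_smul, ← hb, res_res]

section Glue

/-- Isomorphisms of modules from relations between sections. -/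
theorem exists_iso_of_rel {L L' : C.Modules} (R : ∀ U : C.Opens, Γ(L, U) → Γ(L', U) → Prop)
    (hadd : ∀ U m n m' n', R U m m' → R U n n' → R U (m + n) (m' + n'))
    (hsmul : ∀ (U : C.Opens) (a : Γ(C, U)) m m', R U m m' → R U (a • m) (a • m'))
    (hres : ∀ (U V : C.Opens) (h : V ≤ U) m m', R U m m' → R V (res L h m) (res L' h m'))
    (hex : ∀ U m, ∃! m', R U m m') (hex' : ∀ U m', ∃! m, R U m m') :
    ∃ τ : L ≅ L', ∀ U m, R U m (τ.hom.app U m) := by
  choose f hf hfu using hex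
  choose g hg hgu using hex'
  have h0 : ∀ U, R U 0 0 := fun U => by
    have h1 := hsmul U 0 0 (f U 0) (hf U 0)
    rwa [zero_smul, zero_smul] at h1
  let φ : L ⟶ L' := mkHom (fun U => ⟨⟨f U, (hfu U 0 0 (h0 U)).symm⟩,
      fun m n => (hfu U (m + n) _ (hadd U m n _ _ (hf U m) (hf U n))).symm⟩)
    (fun U a m => (hfu U (a • m) _ (hsmul U a m _ (hf U m))).symm)
    (fun U V h m => (hfu V (res L h m) _ (hres U V h m _ (hf U m))).symm)
  let ψ : L' ⟶ L := mkHom (fun U => ⟨⟨g U, (hgu U 0 0 (h0 U)).symm⟩,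
      fun m n => (hgu U (m + n) _ (hadd U _ _ _ _ (hg U m) (hg U n))).symm⟩)
    (fun U a m => (hgu U (a • m) _ (hsmul U a _ _ (hg U m))).symm)
    (fun U V h m => (hgu V (res L' h m) _ (hres U V h _ _ (hg U m))).symm)
  refine ⟨⟨φ, ψ, ?_, ?_⟩, fun U m => hf U m⟩
  · apply Scheme.Modules.hom_ext
    intro U
    ext m
    exact (hgu U (f U m) m (hf U m)).symm
  · apply Scheme.Modules.hom_ext
    intro U
    ext m
    exact (hfu U (g U m) m (hg U m)).symm

/-- A local relation which is locally functional is functional. -/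
theorem existsUnique_of_local {L L' : C.Modules} (R : ∀ U : C.Opens, Γ(L, U) → Γ(L', U) → Prop)
    (hres : ∀ (U V : C.Opens) (h : V ≤ U) m m', R U m m' → R V (res L h m) (res L' h m'))
    (hloc : ∀ (U : C.Opens) m m', (∀ x ∈ U, ∃ (V : C.Opens) (h : V ≤ U), x ∈ V ∧ R V (res L h m) (res L' h m')) →
      R U m m')
    (hex : ∀ (x : C) (U : C.Opens), x ∈ U → ∃ W : C.Opens, W ≤ U ∧ x ∈ W ∧ ∀ V : C.Opens, V ≤ W → ∀ m, ∃! m', R V m m')
    (U : C.Opens) (m : Γ(L, U)) : ∃! m', R U m m' := by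
  choose W hWU hxW hW using fun x : U => hex x.1 U x.2
  have hcov : U ≤ ⨆ x, W x := fun x hx => Opens.mem_iSup.2 ⟨⟨x, hx⟩, hxW ⟨x, hx⟩⟩
  choose m' hm' hmu using fun x => hW x (W x) le_rfl (res L (hWU x) m)
  obtain ⟨t, ht⟩ := res_glue L' W hWU hcov m' (by
    intro x y
    have h1 := hres _ _ (inf_le_left : W x ⊓ W y ≤ W x) _ _ (hm' x)
    have h2 := hres _ _ (inf_le_right : W x ⊓ W y ≤ W y) _ _ (hm' y)
    rw [res_res] at h1 h2
    exact (hW x _ inf_le_left _).unique h1 h2)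
  refine ⟨t, hloc U m t fun x hx => ⟨W ⟨x, hx⟩, hWU _, hxW _, by rw [ht]; exact hm' _⟩, fun t' ht' => ?_⟩
  refine res_ext L' W hWU hcov fun x => ?_
  rw [ht]
  exact hmu x _ (hres _ _ _ _ _ ht')

end Glue

/-- The relation `m ⊗ s' = s ⊗ m'`. -/
def Rel (s : Γ(L, ⊤)) (s' : Γ(L', ⊤)) (U : C.Opens) (m : Γ(L, U)) (m' : Γ(L', U)) : Prop :=
  tmul m (res L' (le_top : U ≤ ⊤) s') = tmul (res L (le_top : U ≤ ⊤) s) m'

theorem Rel.add {U : C.Opens} {m n : Γ(L, U)} {m' n' : Γ(L', U)} (h : Rel s s' U m m') (h' : Rel s s' U n n') :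
    Rel s s' U (m + n) (m' + n') := by
  rw [Rel, add_tmul, tmul_add, h, h']

theorem Rel.smul {U : C.Opens} {m : Γ(L, U)} {m' : Γ(L', U)} (h : Rel s s' U m m') (a : Γ(C, U)) :
    Rel s s' U (a • m) (a • m') := by
  rw [Rel, smul_tmul, tmul_smul, h]

theorem Rel.res {U V : C.Opens} {m : Γ(L, U)} {m' : Γ(L', U)} (h : Rel s s' U m m') (hV : V ≤ U) :
    Rel s s' V (res L hV m) (Groth.Agent.Fdesc.LocGen.res L' hV m') := by
  have h1 := congrArg (Groth.Agent.Fdesc.LocGen.res _ hV) h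
  rw [res_tmul, res_tmul, res_res, res_res] at h1
  exact h1

theorem Rel.of_local {U : C.Opens} {m : Γ(L, U)} {m' : Γ(L', U)}
    (h : ∀ x ∈ U, ∃ (V : C.Opens) (h : V ≤ U), x ∈ V ∧ Rel s s' V (Groth.Agent.Fdesc.LocGen.res L h m)
      (Groth.Agent.Fdesc.LocGen.res L' h m')) : Rel s s' U m m' := by
  choose V hV hxV hR using h
  refine res_ext _ (fun x : U => V x.1 x.2) (fun x => hV _ _)
    (fun x hx => Opens.mem_iSup.2 ⟨⟨x, hx⟩, hxV x hx⟩) fun x => ?_
  have h1 := hR x.1 x.2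
  rw [res_tmul, res_tmul, res_res, res_res]
  exact h1

theorem rel_iff {W : C.Opens} {e : Γ(L, W)} {e' : Γ(L', W)} {b b' : Γ(C, W)} (he : IsGen e) (he' : IsGen e')
    (hb : res L le_top s = b • e) (hb' : res L' le_top s' = b' • e') {V : C.Opens} (hV : V ≤ W) (c c' : Γ(C, V)) :
    Rel s s' V (c • res L hV e) (c' • res L' hV e') ↔ c * ores hV b' = ores hV b * c' := by
  have h1 : res L (le_top : V ≤ ⊤) s = ores hV b • res L hV e := by rw [← res_smul, ← hb, res_res]
  have h2 : res L' (le_top : V ≤ ⊤) s' = ores hV b' • res L' hV e' := by rw [← res_smul, ← hb', res_res]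
  rw [Rel, h1, h2, smul_tmul, smul_tmul, tmul_smul, tmul_smul, smul_smul, smul_smul]
  exact ⟨fun h => ((he.res hV).tmul (he'.res hV)).ext h, fun h => by rw [h]⟩

/-- Node O2. -/
theorem exists_iso (hD : BlowUp.IsEffCartierIdeal D) (h : IsO D L s) (h' : IsO D L' s') :
    ∃ τ : L ≅ L', τ.hom.app ⊤ s = s' := by
  -- local data
  have key : ∀ (x : C) (U : C.Opens), x ∈ U → ∃ (W : C.Opens) (_ : W ≤ U) (e : Γ(L, W)) (e' : Γ(L', W))
      (b b' a : Γ(C, W)), x ∈ W ∧ IsGen e ∧ IsGen e' ∧ res L le_top s = b • e ∧ res L' le_top s' = b' • e' ∧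
      GenOn D b ∧ GenOn D b' ∧ IsUnit a ∧ b' = b * a := by
    intro x U hx
    obtain ⟨W, hWU, hxW, e, e', -, he, he', -⟩ := K430.DivHom.exists_gens h.inv h'.inv h.inv x hx
    obtain ⟨b, hb⟩ := he.exists_eq (res L le_top s)
    obtain ⟨b', hb'⟩ := he'.exists_eq (res L' le_top s')
    have hg := genOn_of_isO hD h he hb
    have hg' := genOn_of_isO hD h' he' hb'
    have h1 : Ideal.span {b} = Ideal.span {b'} := (h.ideal W e b he hb).symm.trans (h'.ideal W e' b' he' hb')
    obtain ⟨c, hc⟩ := Ideal.mem_span_singleton.1 (h1 ▸ Ideal.mem_span_singleton_self b' : b' ∈ Ideal.span {b})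
    obtain ⟨d, hd⟩ := Ideal.mem_span_singleton.1 (h1.symm ▸ Ideal.mem_span_singleton_self b : b ∈ Ideal.span {b'})
    refine ⟨W.1, hWU, e, e', b, b', c, hxW, he, he', hb, hb', hg, hg', ?_, hc⟩
    have h2 : (c * d) * b = 1 * b := by
      conv_rhs => rw [hd, hc]
      ring
    exact IsUnit.of_mul_eq_one d (hg.cancel h2)
  have hl : ∀ (x : C) (U : C.Opens), x ∈ U → ∃ W : C.Opens, W ≤ U ∧ x ∈ W ∧ ∀ V : C.Opens, V ≤ W →
      ∀ m, ∃! m', Rel s s' V m m' := by
    intro x U hx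
    obtain ⟨W, hWU, e, e', b, b', a, hxW, he, he', hb, hb', hg, hg', ha, hab⟩ := key x U hx
    refine ⟨W, hWU, hxW, fun V hV m => ?_⟩
    obtain ⟨c, rfl⟩ := (he.res hV).exists_eq m
    refine ⟨(c * ores hV a) • res L' hV e', ?_, fun m' hm' => ?_⟩
    · refine (rel_iff he he' hb hb' hV c (c * ores hV a)).2 ?_
      rw [hab, map_mul]
      ring
    · obtain ⟨c', rfl⟩ := (he'.res hV).exists_eq m'
      have h1 := (rel_iff he he' hb hb' hV c c').1 hm'
      rw [hab, map_mul] at h1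
      have h2 : c' * ores hV b = (c * ores hV a) * ores hV b := by rw [mul_comm c', ← h1]; ring
      rw [(hg.res hV).cancel h2]
  have hr : ∀ (x : C) (U : C.Opens), x ∈ U → ∃ W : C.Opens, W ≤ U ∧ x ∈ W ∧ ∀ V : C.Opens, V ≤ W →
      ∀ m', ∃! m, Rel s s' V m m' := by
    intro x U hx
    obtain ⟨W, hWU, e, e', b, b', a, hxW, he, he', hb, hb', hg, hg', ha, hab⟩ := key x U hx
    refine ⟨W, hWU, hxW, fun V hV m' => ?_⟩
    obtain ⟨c', rfl⟩ := (he'.res hV).exists_eq m'
    obtain ⟨a', ha'⟩ := ha.exists_right_inv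
    have hor : ores hV a * ores hV a' = 1 := by rw [← map_mul, ha', map_one]
    refine ⟨(c' * ores hV a') • res L hV e, ?_, fun m hm => ?_⟩
    · refine (rel_iff he he' hb hb' hV (c' * ores hV a') c').2 ?_
      rw [hab, map_mul]
      calc c' * ores hV a' * (ores hV b * ores hV a) = ores hV b * c' * (ores hV a * ores hV a') := by ring
        _ = _ := by rw [hor, mul_one]
    · obtain ⟨c, rfl⟩ := (he.res hV).exists_eq m
      have h1 := (rel_iff he he' hb hb' hV c c').1 hm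
      have h2 : c * ores hV b' = (c' * ores hV a') * ores hV b' := by
        rw [h1, hab, map_mul]
        calc ores hV b * c' = ores hV b * c' * (ores hV a * ores hV a') := by rw [hor, mul_one]
          _ = _ := by ring
      rw [(hg'.res hV).cancel h2]
  obtain ⟨τ, hτ⟩ := exists_iso_of_rel (Rel s s') (fun U m n m' n' => Rel.add) (fun U a m m' hR => Rel.smul hR a)
    (fun U V hV m m' hR => Rel.res hR hV)
    (existsUnique_of_local (Rel s s') (fun U V hV m m' hR => Rel.res hR hV) (fun U m m' => Rel.of_local) hl)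
    (existsUnique_of_local (fun U m' m => Rel s s' U m m') (fun U V hV m m' hR => Rel.res hR hV)
      (fun U m m' => Rel.of_local) hr)
  refine ⟨τ, ?_⟩
  have hu := existsUnique_of_local (Rel s s') (fun U V hV m m' hR => Rel.res hR hV) (fun U m m' => Rel.of_local) hl ⊤ s
  refine hu.unique (hτ ⊤ s) ?_
  rw [Rel, res_refl, res_refl]

/-- Node O3. -/
theorem isO_pullback (h : IsO D L s) (i : C' ⟶ C) :
    IsO (D.comap i) ((Scheme.Modules.pullback i).obj L) (pullTop i s) := by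
  refine isO_of_local (isInvertible_pullback i h.inv) fun x U hx => ?_
  obtain ⟨W₀, -, hxW₀, e, he⟩ := exists_gens h.inv (i x) (U := ⊤) trivial
  obtain ⟨V, W, hxV, hxW, hWU, hVW, hle⟩ := Groth.Agent.Divis.IdealComap.exists_affine_le i x U hx W₀.1 hxW₀
  obtain ⟨b, hb⟩ := (he.res hVW).exists_eq (res L le_top s)
  refine ⟨W, hWU, res _ hle (pullSec i (res L hVW e)), (i.appLE V.1 W.1 hle).hom b, hxW,
    ((he.res hVW).pullSec i).res hle, ?_, ?_⟩
  · have h1 : res ((Scheme.Modules.pullback i).obj L) (le_top : i ⁻¹ᵁ V.1 ≤ ⊤) (pullTop i s) =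
        pullSec i (res L (le_top : V.1 ≤ ⊤) s) := res_pullSec i (le_top : V.1 ≤ ⊤) s
    have h2 := congrArg (res ((Scheme.Modules.pullback i).obj L) hle) h1
    rw [res_res, hb, pullSec_smul, res_smul] at h2
    rw [h2]
    rfl
  · rw [Groth.Agent.Divis.IdealComap.ideal_comap D i V W hle, h.ideal V _ b (he.res hVW) hb, Ideal.map_span,
      Set.image_singleton]

/-- Node O4. -/
theorem mem_genLocus_iff (h : IsO D L s) (x : C) :
    x ∈ CohB1.genLocus L (homOf s) ↔ x ∉ (D.support : Set C) := by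
  obtain ⟨W, -, hxW, e, he⟩ := exists_gens h.inv x (U := ⊤) trivial
  obtain ⟨b, hb⟩ := he.exists_eq (res L le_top s)
  have h1 := genLocus_inf_eq (homOf s) he (a := b) (by rw [sec_homOf, hb])
  have h2 : x ∈ CohB1.genLocus L (homOf s) ↔ x ∈ C.basicOpen b := by
    rw [← h1]
    exact ⟨fun h => ⟨h, hxW⟩, fun h => h.1⟩
  have h3 : x ∈ (D.support : Set C) ↔ x ∈ D.support := Iff.rfl
  rw [h2, h3, Scheme.IdealSheafData.mem_support_iff_of_mem hxW, h.ideal W e b he hb, Scheme.zeroLocus_span,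
    Scheme.mem_zeroLocus_iff]
  constructor
  · intro hx h4
    exact h4 b rfl hx
  · intro h4
    by_contra hx
    exact h4 fun f hf => (Set.mem_singleton_iff.1 hf).symm ▸ hx

end K616.KonO
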