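import Groth.Agent.Fano.K616.KonO1
import Groth.Agent.CurvSt.K333.StableOpen

/-!
# Divisors of sections of a family of curves (S16940, nodes O5-O7)

* `comap_dI`: base change;
* `mem_support_dI`: the support;
* `isEff_dI`: it is an effective Cartier divisor when the sections are sections of a prestable family.
-/

set_option autoImplicit false

universe u

open CategoryTheory CategoryTheory.Limits AlgebraicGeometry TopologicalSpace Opposite

namespace K616.KonO

open K390.PnSec Groth.Agent.Fdesc.LocGen K188.LineDef K745.ConDef K505.KonDef K723.LinDef W4swstmapratcurves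
open Groth.Agent Groth.Agent.Divis.CartierBasic K333.SecDiv

variable {C C' T T' : Scheme.{u}}

/-- Node O5. -/
theorem comap_dI {f : C ⟶ T} [IsSeparated f] {i : C' ⟶ C} {f' : C' ⟶ T'} {g : T' ⟶ T} (hP : IsPullback i f' f g)
    {m : ℕ} (y : Fin m → (T ⟶ C)) (hy : ∀ j, y j ≫ f = 𝟙 T) (y' : Fin m → (T' ⟶ C')) (hy' : ∀ j, y' j ≫ f' = 𝟙 T')
    (hc : ∀ j, y' j ≫ i = g ≫ y j) (a : Fin m → ℕ) : (dI y a).comap i = dI y' a := by
  rw [dI, comap_prod]
  refine Finset.prod_congr rfl fun j _ => ?_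
  rw [Divis.IdealComap.comap_pow]
  have h2 := isClosedImmersion_sect f (y j) (hy j)
  have hq : IsPullback g (y' j) (y j) i := by
    have h1 : IsPullback (y' j ≫ f') g g (y j ≫ f) := by
      rw [hy', hy]
      exact IsPullback.of_horiz_isIso ⟨by simp⟩
    exact (IsPullback.of_right h1 (hc j) hP.flip).flip
  rw [← Fga.HilbClosed.ker_of_isPullback hq]

/-- Node O6. -/
theorem mem_support_dI (f : C ⟶ T) [IsSeparated f] {m : ℕ} (y : Fin m → (T ⟶ C)) (hy : ∀ j, y j ≫ f = 𝟙 T)
    (a : Fin m → ℕ) (x : C) : x ∈ ((dI y a).support : Set C) ↔ ∃ j, 0 < a j ∧ x ∈ Set.range (y j) := by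
  have h0 : x ∈ ((dI y a).support : Set C) ↔ x ∈ (dI y a).support := Iff.rfl
  rw [h0, mem_support_iff_stalkIdeal_le, dI, stalkIdeal_prod, Ideal.IsPrime.prod_le inferInstance]
  refine exists_congr fun j => ?_
  have h2 := isClosedImmersion_sect f (y j) (hy j)
  rw [← support_ker (y j), stalkIdeal_pow]
  have h1 : x ∈ ((y j).ker.support : Set C) ↔ x ∈ (y j).ker.support := Iff.rfl
  rw [h1, mem_support_iff_stalkIdeal_le]
  constructor
  · rintro ⟨-, h⟩
    rcases Nat.eq_zero_or_pos (a j) with h3 | h3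
    · rw [h3, pow_zero, Ideal.one_eq_top, top_le_iff] at h
      exact absurd h (IsLocalRing.maximalIdeal.isMaximal _).ne_top
    · exact ⟨h3, Ideal.IsPrime.le_of_pow_le h⟩
  · rintro ⟨h3, h⟩
    exact ⟨Finset.mem_univ j, (Ideal.pow_le_self h3.ne').trans h⟩

open K901.Loci K901.SchLoc K901.SchPre K901.GeomLoc in
/-- Node O7 (compare `K333.SecDiv.isEff_ker`, `isEff_prod`). -/
theorem isEff_dI {S : Scheme.{u}} {r m : ℕ} {A : CurvSt.PtFamObj S (r + m)} (hA : IsPre A) (a : Fin m → ℕ) :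
    BlowUp.IsEffCartierIdeal (dI (ys A) a) := by
  obtain ⟨hfl, hpr, hfp, hA⟩ := hA
  have hpre : ∀ s, s ∈ K333.StableOpen.preSet A.f A.sect 0 := by
    intro s
    obtain ⟨Ω, _, _, t, ht⟩ := exists_geomPt s
    have hP := IsPullback.of_hasPullback A.f t
    have h1 := (isPrestablePtd_iff A.f A.sect A.sect_f 0 hP).1 (hA Ω t _ _ _ hP)
    rw [ht] at h1
    exact h1
  have hnod : Curv2.IsNodalFamily A.f :=
    (isNodalFamily_iff A.f).2 fun x => ((hpre (A.f x)).1.1.1.1 : A.f x ∈ NodSet A.f) x rfl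
  let U : A.C.Opens := ⟨{x | SmoothAt A.f x}, locusProp_smooth.isOpen A.f⟩
  have hU : SmoothOfRelativeDimension 1 (U.ι ≫ A.f) := by
    refine (K898.SmoothRel.smoothOfRelativeDimension_iff 1 _).2 fun x =>
      ⟨(locusProp_smooth.source U.ι A.f x).2 x.2,
        (K616.DimInv.fibreDimAt_comp_of_etale U.ι A.f x).trans (K333.FamTw.fibreDimAt_eq A.f hnod _)⟩
  refine isEff_prod Finset.univ _ fun j => Divis.EffCartier.isEff_pow ?_ _
  exact isEff_ker A.f (ys A j) (A.sect_f _) U fun s => (hpre s).2 _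

end K616.KonO
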